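import Cfsg.Agent.H994.P4.PiQ

/-!
# S5210 (Q1), `p` odd: interface (helper341)

`StRkQ`: the rank one facts for `G = Γ.map (pi h)` and its Sylow `p`-subgroup `TG K`.
-/

set_option autoImplicit false

namespace Cfsg.Agent.H341.P4

open Cfsg Cfsg.FusionSystem Cfsg.Agent.H776.P4
open Cfsg.Agent.H756.PU (HypK Ess Inv Com NormAut TIAut AF)
open Cfsg.Agent.H994.P4 (A2 pi TG tau)

universe u

/-- `TG K` permutes transitively the other Sylow subgroups `g TG g⁻¹` of `G`; for every other Sylow subgroup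
`g TG g⁻¹` and `1 ≠ x ∈ TG` there is `g y g⁻¹` in it such that `x (g y g⁻¹) x` exchanges both -/
def StRkQ : Prop :=
  ∀ {K : Type u} [Field K] [StarRing K] {p n : ℕ} (h : HypK K p n), p ≠ 2 → 3 < p ^ n →
    ∀ (Γ : Subgroup (MulAut (PQ K))) (D : Subgroup (MulAut (PG K))), ParP p (PQ K) Γ D →
    HasTorP D (fun t => t ^ 2) (fun t => (t * star t)⁻¹) →
    (∀ g ∈ Γ.map (pi h), ∀ g' ∈ Γ.map (pi h), (∃ x ∈ TG K, g * x * g⁻¹ ∉ TG K) → (∃ x ∈ TG K, g' * x * g'⁻¹ ∉ TG K) →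
      ∃ t ∈ TG K, ∀ x ∈ TG K, (g'⁻¹ * t * g) * x * (g'⁻¹ * t * g)⁻¹ ∈ TG K) ∧
    (∀ g ∈ Γ.map (pi h), (∃ x ∈ TG K, g * x * g⁻¹ ∉ TG K) → ∀ x ∈ TG K, x ≠ 1 → ∃ y ∈ TG K,
      (∀ z ∈ TG K, (g⁻¹ * (x * (g * y * g⁻¹) * x)) * z * (g⁻¹ * (x * (g * y * g⁻¹) * x))⁻¹ ∈ TG K) ∧
      (∀ z ∈ TG K, ((x * (g * y * g⁻¹) * x) * g) * z * ((x * (g * y * g⁻¹) * x) * g)⁻¹ ∈ TG K))

end Cfsg.Agent.H341.P4
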